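import Groth.Agent.CompletionTensor.Devissage
import Groth.Agent.DAlg.Classes
import Mathlib.Algebra.Homology.HomotopyCofiber
import Mathlib.Algebra.Category.ModuleCat.Projective

/-!
Derived completion commutes with functors computed by tensoring with bounded above finite free
complexes.
-/

set_option autoImplicit false
set_option linter.style.haveILetI false

universe u

open CategoryTheory CategoryTheory.Limits CategoryTheory.Pretriangulated HomologicalComplex
  MonoidalCategory

attribute [local instance] HasDerivedCategory.standard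

namespace Groth.Agent.CompletionTensor

open Groth.DAlg Groth.DerivedCoh Groth.DAlg.KFlatMod Groth.DerComplete
open Groth.LocCohTransform.CompletionFunctor (comp η)

variable {A : Type u} [CommRing A]

local notation "up" => ComplexShape.up ℤ

/-- A bounded above complex of projective modules. -/
structure BP (b : ℤ) (P : DRing.Cx A) : Prop where
  bdd : DRing.VanishesAbove P b
  proj : ∀ i, Projective (P.X i)

/-- Complexes of projectives bounded above represent bounded above objects. -/
lemma exists_BP (K : Dual.D A) (b : ℤ) (hK : ∀ i, b < i → Subsingleton (Dual.HD A K i)) :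
    ∃ P, BP b P ∧ Nonempty (DRing.toD P ≅ K) := by
  obtain ⟨P, hb, hf, e⟩ := exists_free_rep (R := A) hK
  exact ⟨P, ⟨hb, fun i => (IsProjective.iff_projective (P.X i)).1 (haveI := hf i; inferInstance)⟩, e⟩

/-- Every morphism between representatives is realised by a degreewise split monomorphism. -/
lemma exists_split (P P' : DRing.Cx A) {b : ℤ} (hP : BP b P) (hP' : BP b P')
    (α : DRing.toD P ⟶ DRing.toD P') :
    ∃ (P'' : DRing.Cx A) (g : P ⟶ P'') (e : DRing.toD P'' ≅ DRing.toD P'),
      BP b P'' ∧ DerivedCategory.Q.map g ≫ e.hom = α ∧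
        ∀ p, ∃ r : P''.X p ⟶ P.X p, g.f p ≫ r = 𝟙 _ := by
  obtain ⟨g₀, hg₀⟩ := exists_map_of_projective hP.bdd
    (fun i => (IsProjective.iff_projective (P.X i)).2 (hP.proj i)) α
  let C₁ := CochainComplex.mappingCone (𝟙 P)
  have hC₁ : IsZero (DerivedCategory.Q.obj C₁) := by
    let T' := DerivedCategory.Q.mapTriangle.obj (CochainComplex.mappingCone.triangle (𝟙 P))
    have hT' : T' ∈ distTriang _ :=
      (DerivedCategory.mem_distTriang_iff _).2 ⟨_, _, 𝟙 P, ⟨Iso.refl _⟩⟩
    exact (Triangle.isZero₃_iff_isIso₁ T' hT').2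
      (inferInstanceAs (IsIso (DerivedCategory.Q.map (𝟙 P))))
  let q₁ : P ⟶ C₁ := CochainComplex.mappingCone.inr (𝟙 P)
  let g : P ⟶ P' ⊞ C₁ := biprod.lift g₀ q₁
  have h1 : DerivedCategory.Q.map (biprod.fst : P' ⊞ C₁ ⟶ P') ≫
      DerivedCategory.Q.map biprod.inl = 𝟙 _ := by
    rw [← Functor.map_comp]
    have : DerivedCategory.Q.map ((biprod.snd : P' ⊞ C₁ ⟶ C₁) ≫ (biprod.inr : C₁ ⟶ P' ⊞ C₁)) = 0 := by
      rw [Functor.map_comp, hC₁.eq_of_tgt (DerivedCategory.Q.map biprod.snd) 0, zero_comp]
    rw [← CategoryTheory.Functor.map_id DerivedCategory.Q, ← biprod.total, Functor.map_add, this, add_zero]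
  let e : DRing.toD (P' ⊞ C₁) ≅ DRing.toD P' :=
    ⟨DerivedCategory.Q.map biprod.fst, DerivedCategory.Q.map biprod.inl, h1,
      by rw [← Functor.map_comp, biprod.inl_fst]; exact CategoryTheory.Functor.map_id _ _⟩
  refine ⟨P' ⊞ C₁, g, e, ⟨fun i hi => ?_, fun i => ?_⟩, ?_, fun p => ?_⟩
  · refine IsZero.of_iso ?_ ((HomologicalComplex.eval _ up i).mapBiprod P' C₁)
    refine IsZero.of_iso ?_ (biprod.mapIso (Iso.refl _)
      (HomologicalComplex.homotopyCofiber.XIsoBiprod (𝟙 P) i (i + 1) (by simp)))
    simp only [biprod_isZero_iff, eval_obj]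
    exact ⟨hP'.bdd i hi, hP.bdd (i + 1) (by omega), hP.bdd i hi⟩
  · have := hP'.proj i
    have := hP.proj i
    have := hP.proj (i + 1)
    have : Projective (C₁.X i) := Projective.of_iso
      (HomologicalComplex.homotopyCofiber.XIsoBiprod (𝟙 P) i (i + 1) (by simp)).symm inferInstance
    have : Projective (P'.X i ⊞ C₁.X i) := inferInstance
    exact Projective.of_iso ((HomologicalComplex.eval _ up i).mapBiprod P' C₁).symm this
  · change DerivedCategory.Q.map g ≫ DerivedCategory.Q.map biprod.fst = α
    rw [← Functor.map_comp, biprod.lift_fst, hg₀]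
  · refine ⟨(biprod.snd : P' ⊞ C₁ ⟶ C₁).f p ≫
      (CochainComplex.mappingCone.snd (𝟙 P)).v p p (add_zero p), ?_⟩
    rw [← Category.assoc, ← HomologicalComplex.comp_f, biprod.lift_snd]
    simp [q₁]

variable (I : Ideal A) [DRing.HasDerivedCompletion I]

/-- Universal property from an isomorphism after completion. -/
lemma universal {U V : Dual.D A} (θ : U ⟶ V) [IsIso ((comp I).map θ)] (E : Dual.D A)
    (hE : DRing.IsDerivedComplete I E) : Function.Bijective fun φ : V ⟶ E => θ ≫ φ := by
  have hU := Groth.LocCohTransform.CompletionFunctor.precomp_bijective I U hE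
  have hV := Groth.LocCohTransform.CompletionFunctor.precomp_bijective I V hE
  have h : Function.Bijective fun φ : (comp I).obj V ⟶ E => (comp I).map θ ≫ φ :=
    (asIso ((comp I).map θ)).symm.homFromEquiv.bijective
  rw [← Function.Bijective.of_comp_iff _ hV]
  convert hU.comp h using 1
  funext φ
  exact ((Category.assoc _ _ _).symm.trans
    ((congrArg (· ≫ φ) ((η I).naturality θ)).trans (Category.assoc _ _ _)))

/-- A functor which on bounded above complexes of projectives is tensoring with a bounded above
complex of finite free modules. -/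
structure Data (G : Dual.D A ⥤ Dual.D A) where
  /-- the functor on complexes -/
  Gc : DRing.Cx A ⥤ DRing.Cx A
  /-- the comparison -/
  e : ∀ (b : ℤ) (P : DRing.Cx A), BP b P → (G.obj (DRing.toD P) ≅ DRing.toD (Gc.obj P))
  [additive : Gc.Additive]
  natural : ∀ (b : ℤ) (P P' : DRing.Cx A) (hP : BP b P) (hP' : BP b P') (g : P ⟶ P'),
    G.map (DerivedCategory.Q.map g) ≫ (e b P' hP').hom =
      (e b P hP).hom ≫ DerivedCategory.Q.map (Gc.map g)
  ses : ∀ S : ShortComplex (DRing.Cx A),
    (∀ p, Nonempty (S.map (eval _ up p)).Splitting) → (S.map Gc).ShortExact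
  /-- the complex of finite free modules -/
  F : DRing.Cx A
  /-- the bound -/
  c : ℤ
  bdd : DRing.VanishesAbove F c
  free : DRing.TermwiseFiniteFree F
  tot : ∀ (b : ℤ) (P : DRing.Cx A), BP b P →
    Nonempty (DRing.toD (KFlat.tot (T A) F P) ≅ DRing.toD (Gc.obj P))

variable {G : Dual.D A ⥤ Dual.D A}

/-- Such a functor sends the completion map to the completion map. -/
theorem main (D : Data G) (hI : I.FG) (K : Dual.D A) (b : ℤ)
    (hK : ∀ i : ℤ, b < i → Subsingleton (Dual.HD A K i)) :
    DRing.IsDerivedComplete I (G.obj ((comp I).obj K)) ∧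
      ∀ E : Dual.D A, DRing.IsDerivedComplete I E →
        Function.Bijective (fun φ : G.obj ((comp I).obj K) ⟶ E => G.map ((η I).app K) ≫ φ) := by
  have hK' : ∀ i, b < i → Subsingleton (Dual.HD A ((comp I).obj K) i) := fun i hi => by
    obtain ⟨s, hs⟩ := hI
    exact (Groth.DAlg.DCompletionAmp.isComp_toDerivedCompletion I s hs K).hz i
      fun j hj _ => hK j (by omega)
  obtain ⟨P, hP, ⟨eP⟩⟩ := exists_BP K b hK
  obtain ⟨P₀, hP₀, ⟨eP₀⟩⟩ := exists_BP _ b hK'
  obtain ⟨P', g, e', hP', hg, hr⟩ := exists_split P P₀ hP hP₀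
    (eP.hom ≫ (η I).app K ≫ eP₀.inv)
  let eP' := e' ≪≫ eP₀
  have hg' : DerivedCategory.Q.map g ≫ eP'.hom = eP.hom ≫ (η I).app K := by
    simp [eP', reassoc_of% hg]
  let S : ShortComplex (DRing.Cx A) := ShortComplex.mk g (cokernel.π g) (cokernel.condition g)
  haveI : ∀ p, Mono (g.f p) := fun p => (SplitMono.mk (hr p).choose (hr p).choose_spec).mono
  haveI : Mono g := mono_of_mono_f _ inferInstance
  have hS : S.ShortExact := { exact := ShortComplex.exact_cokernel g }
  have hsp : ∀ p, Nonempty (S.map (eval _ up p)).Splitting := fun p =>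
    haveI := (hS.map_of_exact (eval _ up p)).epi_g
    ⟨ShortComplex.Splitting.ofExactOfRetraction _ (hS.map_of_exact (eval _ up p)).exact
      (hr p).choose (hr p).choose_spec inferInstance⟩
  have hX : BP b S.X₃ := by
    refine ⟨fun i hi => ?_, fun i => ?_⟩
    · exact @IsZero.of_epi _ _ _ _ _ (S.map (eval _ up i)).g (hS.map_of_exact (eval _ up i)).epi_g
        (hP'.bdd i hi)
    · have := hP'.proj i
      let r : Retract (S.X₃.X i) (P'.X i) :=
        ⟨(hsp i).some.s, (cokernel.π g).f i, (hsp i).some.s_g⟩
      exact r.projective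
  have hP'c : DRing.IsDerivedComplete I (DRing.toD P') :=
    (DRing.IsDerivedComplete I).prop_of_iso eP'.symm
      (Groth.LocCohTransform.CompletionFunctor.complete_comp I K)
  constructor
  · exact (DRing.IsDerivedComplete I).prop_of_iso
      ((D.tot b P' hP').some ≪≫ (D.e b P' hP').symm ≪≫ G.mapIso eP')
      (complete_tot I D.F P' D.bdd D.free hP'.bdd hP'c)
  · intro E hE
    have hη : IsIso ((comp I).map ((η I).app K)) := by
      have h := (DRing.derivedCompletionAdj I).left_triangle_components K
      have : IsIso ((DRing.derivedCompletion I).map ((DRing.derivedCompletionAdj I).unit.app K) ≫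
          (DRing.derivedCompletionAdj I).counit.app ((DRing.derivedCompletion I).obj K)) :=
        h ▸ IsIso.id _
      have : IsIso ((DRing.derivedCompletion I).map ((DRing.derivedCompletionAdj I).unit.app K)) :=
        IsIso.of_isIso_comp_right _
          ((DRing.derivedCompletionAdj I).counit.app ((DRing.derivedCompletion I).obj K))
      exact Functor.map_isIso (ObjectProperty.ι (DRing.IsDerivedComplete I))
        ((DRing.derivedCompletion I).map ((DRing.derivedCompletionAdj I).unit.app K))
    have h1 : IsIso ((comp I).map (DerivedCategory.Q.map g)) := by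
      have : DerivedCategory.Q.map g = eP.hom ≫ (η I).app K ≫ eP'.inv := by
        rw [← reassoc_of% hg', Iso.hom_inv_id, Category.comp_id]
      rw [this, Functor.map_comp, Functor.map_comp]
      infer_instance
    have hTri := DerivedCategory.triangleOfSES_distinguished hS
    have h3 : IsZero ((comp I).obj (DRing.toD S.X₃)) :=
      (Triangle.isZero₃_iff_isIso₁ _ ((comp I).map_distinguished _ hTri)).2 h1
    have h4 : IsZero ((comp I).obj (DRing.toD (D.Gc.obj S.X₃))) :=
      (isZero_comp_tot I hI D.F S.X₃ D.bdd D.free hX.bdd h3).of_iso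
        ((comp I).mapIso (D.tot b _ hX).some).symm
    have hTri' := DerivedCategory.triangleOfSES_distinguished (D.ses S hsp)
    have h5 : IsIso ((comp I).map (DerivedCategory.Q.map (D.Gc.map g))) :=
      (Triangle.isZero₃_iff_isIso₁ _ ((comp I).map_distinguished _ hTri')).1 h4
    have : IsIso ((comp I).map (G.map ((η I).app K))) := by
      have : G.map ((η I).app K) = G.map eP.inv ≫ (D.e b P hP).hom ≫
          DerivedCategory.Q.map (D.Gc.map g) ≫ (D.e b P' hP').inv ≫ G.map eP'.hom := by
        rw [← reassoc_of% D.natural b P P' hP hP' g, Iso.hom_inv_id_assoc, ← G.map_comp,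
          ← G.map_comp, hg', Iso.inv_hom_id_assoc]
      rw [this, Functor.map_comp, Functor.map_comp, Functor.map_comp, Functor.map_comp]
      infer_instance
    exact universal I _ E hE

end Groth.Agent.CompletionTensor
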