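import Groth.Agent.DAlg.TotDevissage
import Groth.Agent.DAlg.TotFinite
import Groth.Agent.DAlg.DCompletionAmp
import Groth.Agent.DAlg.PCoh
import Groth.Agent.LocCohTransform.CompletionFunctor

/-!
Derived completeness and vanishing of completion for tensor products with bounded above complexes
of finite free modules.
-/

set_option autoImplicit false
set_option linter.style.haveILetI false

universe u

open CategoryTheory CategoryTheory.Limits CategoryTheory.Pretriangulated HomologicalComplex
  MonoidalCategory

attribute [local instance] HasDerivedCategory.standard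

namespace Groth.Agent.CompletionTensor

open Groth.DAlg Groth.DerivedCoh Groth.DAlg.KFlatMod Groth.DerComplete
  Groth.DAlg.DCompletion Groth.DAlg.DCompletionAmp
open Groth.LocCohTransform.CompletionFunctor (comp η)

variable {A : Type u} [CommRing A]

local notation "up" => ComplexShape.up ℤ

/-- Triangulated properties pass to the tensor product with a brutal truncation. -/
theorem prop_tot_ge (P : ObjectProperty (Dual.D A)) [P.IsTriangulated]
    [P.IsClosedUnderIsomorphisms] (F X : DRing.Cx A) {c : ℤ} (hF : DRing.VanishesAbove F c)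
    (hFf : DRing.TermwiseFiniteFree F) (hX : P (DRing.toD X)) (k : ℤ) :
    P (DRing.toD (KFlat.tot (T A) (KFlat.ge F k) X)) := by
  let Φ : DRing.Cx A → Prop := fun Y => P (DRing.toD Y)
  have hiso : ∀ {Y Z : DRing.Cx A}, (Y ≅ Z) → Φ Y → Φ Z := fun e h =>
    P.prop_of_iso (DerivedCategory.Q.mapIso e) h
  have hzero : ∀ Y : DRing.Cx A, (∀ i, IsZero (Y.X i)) → Φ Y := fun Y hY =>
    P.prop_of_isZero (isZero_Q_obj hY)
  have hses : ∀ S : ShortComplex (DRing.Cx A), S.ShortExact → Φ S.X₁ → Φ S.X₃ → Φ S.X₂ :=
    fun S hS h₁ h₃ => P.ext_of_isTriangulatedClosed₂ _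
      (DerivedCategory.triangleOfSES_distinguished hS) h₁ h₃
  refine tot_ge Φ hiso hzero hses X F hF k fun j _ _ => ?_
  refine totSingle_finFree Φ hiso hzero hses X j ?_ (hFf j)
  exact P.prop_of_iso ((DerivedCategory.Q.commShiftIso (-j)).symm.app X) (P.le_shift (-j) _ hX)

/-- The truncation computes the tensor product in high degrees. -/
theorem exists_tail (F X : DRing.Cx A) {b : ℤ} (hX : DRing.VanishesAbove X b) (k : ℤ) :
    ∃ T' : Triangle (Dual.D A), T' ∈ distTriang (Dual.D A) ∧
      T'.obj₁ = DRing.toD (KFlat.tot (T A) (KFlat.ge F k) X) ∧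
      T'.obj₂ = DRing.toD (KFlat.tot (T A) F X) ∧
      ∀ i, k + b ≤ i → HZ T'.obj₃ i := by
  obtain ⟨S, h₁, h₂, hsp, hz⟩ := exists_ge_tail F k
  have hS : (S.map (KFlat.totL (T A) X)).ShortExact := KFlat.shortExact_totL (T A) X _ fun p q =>
    ((hsp p).some.map ((T A).flip.obj (X.X q))).shortExact
  refine ⟨_, DerivedCategory.triangleOfSES_distinguished hS, ?_, ?_, fun i hi => ?_⟩
  · exact congrArg (fun G => DRing.toD (KFlat.tot (T A) G X)) h₁
  · exact congrArg (fun G => DRing.toD (KFlat.tot (T A) G X)) h₂
  · refine subsingleton_HD_of_iso (Iso.refl _) ?_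
    rw [IsZero.iff_id_eq_zero]
    refine mapBifunctor.hom_ext fun p q hpq => ?_
    by_cases hq : b < q
    · exact (((T A).obj (S.X₃.X p)).map_isZero (hX q hq)).eq_of_src _ _
    · exact (((T A).flip.obj (X.X q)).map_isZero (hz p (by simp at hpq; omega))).eq_of_src _ _

/-- Tensoring with bounded above finite free complexes preserves completeness of bounded above
complexes. -/
theorem complete_tot (I : Ideal A) (F X : DRing.Cx A) {b c : ℤ} (hF : DRing.VanishesAbove F c)
    (hFf : DRing.TermwiseFiniteFree F) (hX : DRing.VanishesAbove X b)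
    (h : DRing.IsDerivedComplete I (DRing.toD X)) :
    DRing.IsDerivedComplete I (DRing.toD (KFlat.tot (T A) F X)) := by
  refine (isDerivedComplete_iff I _).2 fun f hf n => ?_
  obtain ⟨T', hT', h₁, h₂, h₃⟩ := exists_tail F X hX (n - 1 - b)
  have hk := prop_tot_ge (DRing.IsDerivedComplete I) F X hF hFf h (n - 1 - b)
  have hk' := (isDerivedComplete_iff I _).1 hk f hf n
  rw [← h₁] at hk'
  rw [← h₂]
  have : Mono ((DerivedCategory.homologyFunctor (ModuleCat.{u} A) n).map T'.mor₁) :=
    (DerivedCategory.HomologySequence.mono_homologyMap_mor₁_iff _ hT' (n - 1) n (by omega)).2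
      ((h₃ (n - 1) (by omega)).isZero.eq_of_src _ _)
  have : Epi ((DerivedCategory.homologyFunctor (ModuleCat.{u} A) n).map T'.mor₁) :=
    (DerivedCategory.HomologySequence.epi_homologyMap_mor₁_iff _ hT' n).2
      ((h₃ n (by omega)).isZero.eq_of_tgt _ _)
  have := isIso_of_mono_of_epi ((DerivedCategory.homologyFunctor (ModuleCat.{u} A) n).map T'.mor₁)
  exact hk'.congr (asIso ((DerivedCategory.homologyFunctor (ModuleCat.{u} A) n).map
    T'.mor₁)).toLinearEquiv

section Null

variable (I : Ideal A) [DRing.HasDerivedCompletion I]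

/-- Objects whose completion is zero. -/
def nullObj : ObjectProperty (Dual.D A) := fun Z => IsZero ((comp I).obj Z)

instance : (nullObj I).IsClosedUnderIsomorphisms where
  of_iso e h := h.of_iso ((comp I).mapIso e).symm

instance : (nullObj I).IsTriangulated where
  exists_zero := ⟨_, Limits.isZero_zero _, (comp I).map_isZero (Limits.isZero_zero _)⟩
  isStableUnderShiftBy m :=
    { le_shift := fun X h =>
        ((shiftFunctor (Dual.D A) m).map_isZero h).of_iso (((comp I).commShiftIso m).app X) }
  toIsTriangulatedClosed₂ := ObjectProperty.IsTriangulatedClosed₂.mk' fun T hT h₁ h₃ =>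
    Triangle.isZero₂_of_isZero₁₃ _ ((comp I).map_distinguished T hT) h₁ h₃

/-- Tensoring with bounded above finite free complexes preserves vanishing of the completion of
bounded above complexes. -/
theorem isZero_comp_tot (hI : I.FG) (F X : DRing.Cx A) {b c : ℤ} (hF : DRing.VanishesAbove F c)
    (hFf : DRing.TermwiseFiniteFree F) (hX : DRing.VanishesAbove X b)
    (h : IsZero ((comp I).obj (DRing.toD X))) :
    IsZero ((comp I).obj (DRing.toD (KFlat.tot (T A) F X))) := by
  obtain ⟨s, hs⟩ := hI
  refine Groth.DAlg.isZero_of_homology fun n => ?_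
  obtain ⟨T', hT', h₁, h₂, h₃⟩ := exists_tail F X hX (n - b)
  have hk : IsZero ((comp I).obj T'.obj₁) :=
    h₁ ▸ prop_tot_ge (nullObj I) F X hF hFf h (n - b)
  have hz : HZ ((comp I).obj T'.obj₃) n :=
    (isComp_toDerivedCompletion I s hs T'.obj₃).hz n fun i hi _ => h₃ i (by omega)
  have : IsIso ((comp I).map T'.mor₂) :=
    (Triangle.isZero₁_iff_isIso₂ _ ((comp I).map_distinguished T' hT')).1 hk
  rw [← h₂]
  exact hz.isZero.of_iso
    ((DerivedCategory.homologyFunctor (ModuleCat.{u} A) n).mapIso (asIso ((comp I).map T'.mor₂)))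

end Null

end Groth.Agent.CompletionTensor
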