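import Groth.Agent.CompletionTensor.Core
import Groth.Agent.DAlg.LTensorCxIso
import Groth.Agent.DAlg.LeftDerived
import Groth.Agent.DerivedCoh.KFlat.Pointwise

/-!
The derived tensor product with a bounded above complex of finite free modules, and with a finite
module over a Noetherian ring, as instances of `CompletionTensor.Data`.
-/

set_option autoImplicit false
set_option linter.style.haveILetI false

universe u

open CategoryTheory CategoryTheory.Limits HomologicalComplex MonoidalCategory

attribute [local instance] HasDerivedCategory.standard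

namespace Groth.Agent.CompletionTensor

open Groth.DAlg Groth.DerivedCoh Groth.DAlg.KFlatMod

variable {A : Type u} [CommRing A]

local notation "up" => ComplexShape.up ℤ

lemma BP.isKFlatCx {b : ℤ} {P : DRing.Cx A} (hP : BP b P) : IsKFlatCx A P :=
  isKFlatCx_of_flat P hP.bdd fun i =>
    haveI : Module.Projective A (P.X i) := (IsProjective.iff_projective (P.X i)).2 (hP.proj i)
    Module.Flat.of_projective

lemma BP.isKProjective {b : ℤ} {P : DRing.Cx A} (hP : BP b P) : P.IsKProjective :=
  isKProjective_of_bounded hP.bdd fun i => (IsProjective.iff_projective (P.X i)).2 (hP.proj i)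

/-- The tensor product of complexes is symmetric. -/
noncomputable def totComm (K L : DRing.Cx A) : KFlat.tot (T A) K L ≅ KFlat.tot (T A) L K :=
  (mapBifunctorFlipIso K L (T A) up).symm ≪≫
    (HomologicalComplex₂.totalFunctor (ModuleCat.{u} A) up up up).mapIso (biFlipIso L K)

/-- Tensoring with a bounded above complex of finite free modules. -/
noncomputable def dataCx (F : DRing.Cx A) {c : ℤ} (hF : DRing.VanishesAbove F c)
    (hFf : DRing.TermwiseFiniteFree F) [DRing.HasLTensorCx A F] : Data (DRing.LTensorCx A F) where
  Gc := KFlat.totL (T A) F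
  e _ P hP := lTensorCxIso F P hP.isKFlatCx
  natural _ P P' _ _ g :=
    ((DRing.tensorCxQ A F).totalLeftDerivedCounit DerivedCategory.Q
      (HomologicalComplex.quasiIso (ModuleCat.{u} A) up)).naturality g
  ses S h := KFlat.shortExact_totL (T A) F S fun p q =>
    ((h p).some.map ((T A).flip.obj (F.X q))).shortExact
  F := F
  c := c
  bdd := hF
  free := hFf
  tot _ P _ := ⟨DerivedCategory.Q.mapIso (totComm F P)⟩

lemma tensorModIso_natural (M : ModuleCat.{u} A) [DRing.HasLTensor A M] {P P' : DRing.Cx A}
    [P.IsKProjective] [P'.IsKProjective] (g : P ⟶ P') :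
    (DRing.LTensor A M).map (DerivedCategory.Q.map g) ≫ (lTensorIso M P').hom =
      (lTensorIso M P).hom ≫
        DerivedCategory.Q.map (((tensorRight M).mapHomologicalComplex up).map g) := by
  let G := DRing.LTensor A M
  let qq := DerivedCategory.quotientCompQhIso (ModuleCat.{u} A)
  let cou := (DRing.tensorKh A M).totalLeftDerivedCounit DerivedCategory.Qh
    (HomotopyCategory.quasiIso (ModuleCat.{u} A) up)
  let MC := (tensorRight M).mapHomologicalComplex up
  let fac := (tensorRight M).mapHomotopyCategoryFactors up
  have hA : G.map (DerivedCategory.Q.map g) ≫ (leftDerivedObjIso (DRing.tensorKh A M) P').hom =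
      (leftDerivedObjIso (DRing.tensorKh A M) P).hom ≫
        (DRing.tensorKh A M).map ((HomotopyCategory.quotient _ _).map g) := by
    have h1 : DerivedCategory.Q.map g ≫ qq.inv.app P' =
        qq.inv.app P ≫ DerivedCategory.Qh.map ((HomotopyCategory.quotient _ _).map g) :=
      qq.inv.naturality g
    have h2 : G.map (DerivedCategory.Qh.map ((HomotopyCategory.quotient _ _).map g)) ≫ cou.app _ =
        cou.app _ ≫ (DRing.tensorKh A M).map ((HomotopyCategory.quotient _ _).map g) :=
      cou.naturality _
    change G.map (DerivedCategory.Q.map g) ≫ G.map (qq.inv.app P') ≫ cou.app _ =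
      (G.map (qq.inv.app P) ≫ cou.app _) ≫ _
    rw [← G.map_comp_assoc, h1, G.map_comp_assoc, Category.assoc, h2]
  have hB : (DRing.tensorKh A M).map ((HomotopyCategory.quotient _ _).map g) ≫
      (DerivedCategory.Qh.mapIso (fac.app P') ≪≫ qq.app (MC.obj P')).hom =
      (DerivedCategory.Qh.mapIso (fac.app P) ≪≫ qq.app (MC.obj P)).hom ≫
        DerivedCategory.Q.map (MC.map g) := by
    have h3 : ((tensorRight M).mapHomotopyCategory up).map ((HomotopyCategory.quotient _ _).map g) ≫
        fac.hom.app P' = fac.hom.app P ≫ (HomotopyCategory.quotient _ _).map (MC.map g) :=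
      fac.hom.naturality g
    have h4 : DerivedCategory.Qh.map ((HomotopyCategory.quotient _ _).map (MC.map g)) ≫
        qq.hom.app (MC.obj P') = qq.hom.app (MC.obj P) ≫ DerivedCategory.Q.map (MC.map g) :=
      qq.hom.naturality (MC.map g)
    change DerivedCategory.Qh.map (((tensorRight M).mapHomotopyCategory up).map
        ((HomotopyCategory.quotient _ _).map g)) ≫
          DerivedCategory.Qh.map (fac.hom.app P') ≫ qq.hom.app (MC.obj P') =
      (DerivedCategory.Qh.map (fac.hom.app P) ≫ qq.hom.app (MC.obj P)) ≫ _
    refine (Functor.map_comp_assoc _ _ _ _).symm.trans ?_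
    rw [h3]
    refine (Functor.map_comp_assoc _ _ _ _).trans ?_
    exact (congrArg (_ ≫ ·) h4).trans (Category.assoc _ _ _).symm
  exact (Category.assoc _ _ _).symm.trans ((congrArg (· ≫ _) hA).trans
    ((Category.assoc _ _ _).trans ((congrArg (_ ≫ ·) hB).trans (Category.assoc _ _ _).symm)))

/-- Tensoring with a finite module over a Noetherian ring. -/
noncomputable def dataMod [IsNoetherianRing A] (M : ModuleCat.{u} A) [Module.Finite A M]
    [DRing.HasLTensor A M] : Data (DRing.LTensor A M) :=
  have h : DRing.IsPseudoCoherent' A ((DerivedCategory.singleFunctor (ModuleCat.{u} A) 0).obj M) :=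
    isPseudoCoherent'_iff_isPC.2 (isPC_single_of_finite A M inferInstance)
  have h0 : ∀ i : ℤ, 0 < i →
      Subsingleton (Dual.HD A ((DerivedCategory.singleFunctor (ModuleCat.{u} A) 0).obj M) i) :=
    fun i hi => ModuleCat.isZero_iff_subsingleton.1 (DerivedCategory.isZero_of_isLE _ 0 i hi)
  { Gc := (tensorRight M).mapHomologicalComplex up
    e := fun _ P hP => haveI := hP.isKProjective; lTensorIso M P
    natural := fun _ P P' hP hP' g =>
      haveI := hP.isKProjective; haveI := hP'.isKProjective; tensorModIso_natural M g
    ses := fun S hS => shortExact_of_degreewise_shortExact _ fun p =>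
      ((hS p).some.map (tensorRight M)).shortExact
    F := (exists_finFree_rep h h0).choose
    c := 0
    bdd := (exists_finFree_rep h h0).choose_spec.1
    free := (exists_finFree_rep h h0).choose_spec.2.1
    tot := fun b P hP => by
      obtain ⟨hb, hf, ⟨e⟩⟩ := (exists_finFree_rep h h0).choose_spec
      obtain ⟨g, hg⟩ := exists_map_of_projective hb
        (fun i => haveI := (hf i).2; inferInstance)
        (e.hom ≫ ((DerivedCategory.singleFunctorIsoCompQ (ModuleCat.{u} A) 0).app M).hom :
          DRing.toD _ ⟶ DRing.toD ((single (ModuleCat.{u} A) up 0).obj M))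
      have : IsIso (DerivedCategory.Q.map g) := by
        rw [hg]
        exact (e ≪≫ (DerivedCategory.singleFunctorIsoCompQ (ModuleCat.{u} A) 0).app M).isIso_hom
      have : QuasiIso g := (DerivedCategory.isIso_Q_map_iff_quasiIso _ _).1 this
      have := (isKFlatCx_iff.1 hP.isKFlatCx).quasiIso_totL g
      have : IsIso (DerivedCategory.Q.map ((KFlat.totL (T A) P).map g)) :=
        (DerivedCategory.isIso_Q_map_iff_quasiIso _ _).2 inferInstance
      exact ⟨@asIso _ _ _ _ (DerivedCategory.Q.map ((KFlat.totL (T A) P).map g)) this ≪≫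
        DerivedCategory.Q.mapIso (KFlat.totSingleIso (T A) M P ≪≫ leftTensorIso M P)⟩ }

end Groth.Agent.CompletionTensor
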